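import Groth.Prelude.Def_LocCohZ
import Groth.Prelude.Def_CohSite
import Mathlib.CategoryTheory.Abelian.GrothendieckCategory.EnoughInjectives

/-!
# The Mayer-Vietoris sequence of the sheaves `ℤ_X/ℤ_U`
-/

noncomputable section

universe u

open CategoryTheory CategoryTheory.Limits Opposite TopologicalSpace

namespace Groth.Agent.H1MV

variable {X : TopCat.{u}} {G : CohTop.Ab X}

/-- The section defined by a morphism out of `ℤ_V/ℤ_W`. -/
def sec {W V : Opens X} {h : W ≤ V} (φ : LocCohZ.zq h ⟶ G) : G.obj.obj (op V) :=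
  CohFree.evalGen (Opens.grothendieckTopology X) V G
    (cokernel.π (CohCx.freeSheafMap (Opens.grothendieckTopology X) (homOfLE h)) ≫ φ)

theorem sec_zero {W V : Opens X} {h : W ≤ V} : sec (0 : LocCohZ.zq h ⟶ G) = 0 := by
  rw [sec, comp_zero, map_zero]

theorem sec_add {W V : Opens X} {h : W ≤ V} (φ ψ : LocCohZ.zq h ⟶ G) : sec (φ + ψ) = sec φ + sec ψ := by
  rw [sec, sec, sec, Preadditive.comp_add, map_add]

theorem sec_neg {W V : Opens X} {h : W ≤ V} (φ : LocCohZ.zq h ⟶ G) : sec (-φ) = -sec φ := by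
  rw [sec, sec, Preadditive.comp_neg, map_neg]

theorem sec_injective {W V : Opens X} {h : W ≤ V} {φ ψ : LocCohZ.zq h ⟶ G} (e : sec φ = sec ψ) : φ = ψ := by
  refine (cancel_epi (cokernel.π _)).1 ?_
  rw [← CohFree.ofSect_evalGen (Opens.grothendieckTopology X) V G (cokernel.π _ ≫ φ),
    ← CohFree.ofSect_evalGen (Opens.grothendieckTopology X) V G (cokernel.π _ ≫ ψ)]
  exact congrArg _ e

theorem res_sec {W V : Opens X} {h : W ≤ V} (φ : LocCohZ.zq h ⟶ G) :
    G.obj.map (homOfLE h).op (sec φ) = 0 := by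
  rw [sec, ← CohFree.evalGen_freeSheafMap_comp, cokernel.condition_assoc, zero_comp, map_zero]

theorem exists_sec {W V : Opens X} (h : W ≤ V) (s : G.obj.obj (op V)) (hs : G.obj.map (homOfLE h).op s = 0) :
    ∃ φ : LocCohZ.zq h ⟶ G, sec φ = s :=
  ⟨Abelian.Ext.addEquiv₀ ((LocCohZ.sect0Equiv G h).symm ⟨s, hs⟩),
    congrArg Subtype.val ((LocCohZ.sect0Equiv G h).apply_symm_apply ⟨s, hs⟩)⟩

theorem sec_zqMap {W V W' V' : Opens X} (h : W ≤ V) (h' : W' ≤ V') (hW : W' ≤ W) (hV : V' ≤ V)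
    (φ : LocCohZ.zq h ⟶ G) :
    sec (LocCohZ.zqMap h h' hW hV ≫ φ) = G.obj.map (homOfLE hV).op (sec φ) := by
  rw [sec, sec, LocCohZ.zqMap, cokernel.π_desc_assoc, Category.assoc, CohFree.evalGen_freeSheafMap_comp]

theorem sec_zqMap' {W V W' : Opens X} (h : W ≤ V) (h' : W' ≤ V) (hW : W' ≤ W) (φ : LocCohZ.zq h ⟶ G) :
    sec (LocCohZ.zqMap h h' hW le_rfl ≫ φ) = sec φ := by
  rw [sec_zqMap, show (homOfLE (le_refl V)).op = 𝟙 (op V) from rfl, CategoryTheory.Functor.map_id]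
  rfl

variable (U U' : Opens X)

/-- `ℤ_X/ℤ_{U ⊓ U'} ⟶ ℤ_X/ℤ_U`. -/
abbrev aL : LocCohZ.zq (le_top : U ⊓ U' ≤ ⊤) ⟶ LocCohZ.zq (le_top : U ≤ ⊤) :=
  LocCohZ.zqMap (le_top : U ≤ ⊤) (le_top : U ⊓ U' ≤ ⊤) inf_le_left le_rfl

/-- `ℤ_X/ℤ_{U ⊓ U'} ⟶ ℤ_X/ℤ_{U'}`. -/
abbrev aR : LocCohZ.zq (le_top : U ⊓ U' ≤ ⊤) ⟶ LocCohZ.zq (le_top : U' ≤ ⊤) :=
  LocCohZ.zqMap (le_top : U' ≤ ⊤) (le_top : U ⊓ U' ≤ ⊤) inf_le_right le_rfl

/-- `ℤ_X/ℤ_U ⟶ ℤ_X/ℤ_{U ⊔ U'}`. -/
abbrev bL : LocCohZ.zq (le_top : U ≤ ⊤) ⟶ LocCohZ.zq (le_top : U ⊔ U' ≤ ⊤) :=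
  LocCohZ.zqMap (le_top : U ⊔ U' ≤ ⊤) (le_top : U ≤ ⊤) le_sup_left le_rfl

/-- `ℤ_X/ℤ_{U'} ⟶ ℤ_X/ℤ_{U ⊔ U'}`. -/
abbrev bR : LocCohZ.zq (le_top : U' ≤ ⊤) ⟶ LocCohZ.zq (le_top : U ⊔ U' ≤ ⊤) :=
  LocCohZ.zqMap (le_top : U ⊔ U' ≤ ⊤) (le_top : U' ≤ ⊤) le_sup_right le_rfl

theorem comp_eq : aL U U' ≫ bL U U' = aR U U' ≫ bR U U' := by
  refine sec_injective ?_
  rw [sec_zqMap', sec_zqMap', ← Category.comp_id (bL U U'), ← Category.comp_id (bR U U'), sec_zqMap', sec_zqMap']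

/-- The Mayer-Vietoris sequence. -/
abbrev mvSeq : ShortComplex (CohTop.Ab X) :=
  ShortComplex.mk (biprod.lift (aL U U') (-aR U U')) (biprod.desc (bL U U') (bR U U')) (by
    rw [biprod.lift_desc, Preadditive.neg_comp, comp_eq, add_neg_cancel])

theorem mono_lift : Mono (biprod.lift (aL U U') (-aR U U')) := by
  refine Preadditive.mono_of_cancel_zero _ fun {T} x hx => ?_
  let e := Injective.ι (LocCohZ.zq (le_top : U ⊓ U' ≤ (⊤ : Opens X)))
  set s := sec e with hs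
  let I := Injective.under (LocCohZ.zq (le_top : U ⊓ U' ≤ (⊤ : Opens X)))
  have hcompat : TopCat.Presheaf.IsCompatible I.obj (fun b : Bool => if b then U else U')
      (fun b => if hb : b then 0 else I.obj.map (homOfLE le_top).op s) := by
    intro b b'
    cases b <;> cases b' <;> simp only [Bool.false_eq_true, ↓reduceDIte, map_zero]
    · rfl
    · rw [← ConcreteCategory.comp_apply, ← Functor.map_comp]
      have h := res_sec e
      rw [show (homOfLE (le_top : U ⊓ U' ≤ ⊤)).op = (homOfLE (le_top : U' ≤ ⊤)).op ≫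
        (homOfLE (inf_le_right : U ⊓ U' ≤ U')).op from Subsingleton.elim _ _, Functor.map_comp,
        ConcreteCategory.comp_apply] at h
      rw [Functor.map_comp, ConcreteCategory.comp_apply]
      have h2 := congrArg (I.obj.map (homOfLE (show (if (false : Bool) then U else U') ⊓ (if (true : Bool) then U else U') ≤ U ⊓ U' by
        simp [inf_comm])).op) h
      rw [map_zero, ← ConcreteCategory.comp_apply, ← ConcreteCategory.comp_apply, ← Functor.map_comp,
        ← Functor.map_comp] at h2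
      rw [← ConcreteCategory.comp_apply, ← Functor.map_comp]
      exact h2
    · rw [← ConcreteCategory.comp_apply, ← Functor.map_comp]
      have h := res_sec e
      have h2 := congrArg (I.obj.map (homOfLE (show (if (true : Bool) then U else U') ⊓ (if (false : Bool) then U else U') ≤ U ⊓ U' by
        simp)).op) h
      rw [map_zero, ← ConcreteCategory.comp_apply, ← Functor.map_comp] at h2
      exact h2.symm
  obtain ⟨t0, ht0, -⟩ := TopCat.Sheaf.existsUnique_gluing' (F := I) (fun b : Bool => if b then U else U') (U ⊔ U')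
    (fun b => homOfLE (by cases b <;> simp)) (sup_le (le_iSup_of_le true (by simp)) (le_iSup_of_le false (by simp)))
    _ hcompat
  let φ0 := CohFree.ofSect (Opens.grothendieckTopology X) (U ⊔ U') I t0
  let t := CohFree.evalGen (Opens.grothendieckTopology X) ⊤ I
    (Injective.factorThru φ0 (CohCx.freeSheafMap (Opens.grothendieckTopology X) (homOfLE (le_top : U ⊔ U' ≤ ⊤))))
  have ht : I.obj.map (homOfLE (le_top : U ⊔ U' ≤ ⊤)).op t = t0 := by
    rw [← CohFree.evalGen_freeSheafMap_comp, Injective.comp_factorThru, CohFree.evalGen_ofSect]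
  have htU : I.obj.map (homOfLE (le_top : U ≤ ⊤)).op t = 0 := by
    have h := ht0 true
    simp only [↓reduceDIte] at h
    rw [← ht, ← ConcreteCategory.comp_apply, ← Functor.map_comp] at h
    exact h
  have htU' : I.obj.map (homOfLE (le_top : U' ≤ ⊤)).op (t - s) = 0 := by
    have h := ht0 false
    simp only [Bool.false_eq_true, ↓reduceDIte] at h
    rw [← ht, ← ConcreteCategory.comp_apply, ← Functor.map_comp] at h
    rw [map_sub, sub_eq_zero]
    exact h
  obtain ⟨φ1, hφ1⟩ := exists_sec (G := I) (le_top : U ≤ ⊤) t htU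
  obtain ⟨φ2, hφ2⟩ := exists_sec (G := I) (le_top : U' ≤ ⊤) (t - s) htU'
  have he : biprod.lift (aL U U') (-aR U U') ≫ biprod.desc φ1 φ2 = e := by
    refine sec_injective ?_
    rw [biprod.lift_desc, sec_add, Preadditive.neg_comp, sec_neg, sec_zqMap', sec_zqMap', hφ1, hφ2, ← hs]
    abel
  rw [← cancel_mono e, zero_comp, ← he, ← Category.assoc, hx, zero_comp]

theorem exists_desc (φ : LocCohZ.zq (le_top : U ≤ ⊤) ⊞ LocCohZ.zq (le_top : U' ≤ ⊤) ⟶ G)
    (hφ : biprod.lift (aL U U') (-aR U U') ≫ φ = 0) :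
    ∃ ψ : LocCohZ.zq (le_top : U ⊔ U' ≤ ⊤) ⟶ G, biprod.desc (bL U U') (bR U U') ≫ ψ = φ := by
  have hd : φ = biprod.desc (biprod.inl ≫ φ) (biprod.inr ≫ φ) := biprod.hom_ext' _ _ (by simp) (by simp)
  set φ1 := biprod.inl ≫ φ
  set φ2 := biprod.inr ≫ φ
  have h : sec φ1 = sec φ2 := by
    have h0 := congrArg sec hφ
    rw [hd, biprod.lift_desc, sec_add, Preadditive.neg_comp, sec_neg, sec_zqMap', sec_zqMap', sec_zero,
      add_neg_eq_zero] at h0
    exact h0
  have hU : G.obj.map (homOfLE (le_top : U ⊔ U' ≤ ⊤)).op (sec φ1) = 0 := by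
    refine TopCat.Sheaf.eq_of_locally_eq₂ (F := G) (homOfLE le_sup_left) (homOfLE le_sup_right) le_rfl _ _ ?_ ?_
    · rw [map_zero, ← ConcreteCategory.comp_apply, ← Functor.map_comp]
      exact res_sec φ1
    · rw [map_zero, ← ConcreteCategory.comp_apply, ← Functor.map_comp, h]
      exact res_sec φ2
  obtain ⟨ψ, hψ⟩ := exists_sec _ _ hU
  refine ⟨ψ, biprod.hom_ext' _ _ ?_ ?_⟩
  · rw [biprod.inl_desc_assoc]
    exact sec_injective (by rw [sec_zqMap', hψ])
  · rw [biprod.inr_desc_assoc]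
    exact sec_injective (by rw [sec_zqMap', hψ, h])

theorem epi_desc : Epi (biprod.desc (bL U U') (bR U U')) := by
  refine Preadditive.epi_of_cancel_zero _ fun {G} ψ hψ => sec_injective ?_
  have h := congrArg (biprod.inl ≫ ·) hψ
  simp only [biprod.inl_desc_assoc, comp_zero] at h
  rw [← sec_zqMap' (le_top : U ⊔ U' ≤ ⊤) (le_top : U ≤ ⊤) le_sup_left ψ, sec_zero]
  exact (congrArg sec h).trans sec_zero

theorem mvSeq_shortExact : (mvSeq U U').ShortExact :=
  haveI := mono_lift U U'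
  haveI : Epi (mvSeq U U').g := epi_desc U U'
  { exact := (mvSeq U U').exact_of_g_is_cokernel
      (CokernelCofork.IsColimit.ofπ _ _ (fun φ hφ => (exists_desc U U' φ hφ).choose)
        (fun φ hφ => (exists_desc U U' φ hφ).choose_spec)
        (fun φ hφ m hm => (cancel_epi (mvSeq U U').g).1 (hm.trans (exists_desc U U' φ hφ).choose_spec.symm)))
    mono_f := mono_lift U U'
    epi_g := epi_desc U U' }

end Groth.Agent.H1MV
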